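import Mathlib

/-!
The group `3³:2²` as the subgroup of even elements of `Sym(3)³`, acting on nine points in
three blocks.
-/

set_option autoImplicit false

namespace CfsgLib.ThreeCubedTI

open Equiv

/-- Triples of permutations of three points. -/
abbrev P3 := Fin 3 → Equiv.Perm (Fin 3)

/-- The product of the three signs is one. -/
abbrev Ev (f : P3) : Prop := Equiv.Perm.sign (f 0) * Equiv.Perm.sign (f 1) * Equiv.Perm.sign (f 2) = 1

/-- All three signs are one. -/
abbrev Rot (f : P3) : Prop := ∀ i, Equiv.Perm.sign (f i) = 1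

/-- The `3`-cycle in coordinate `i`. -/
def eV (i : Fin 3) : P3 := fun j => if j = i then swap 0 1 * swap 1 2 else 1

/-- The involution fixing coordinate `i` and inverting the other two. -/
def aV (i : Fin 3) : P3 := fun j => if j = i then 1 else swap 0 1

theorem ev_aV : ∀ i, Ev (aV i) := by decide

theorem rot_eV : ∀ i, Rot (eV i) := by decide

theorem ev_of_rot {f : P3} (h : Rot f) : Ev f := by rw [Ev, h 0, h 1, h 2]; rfl

theorem units_odd_pow : ∀ u : ℤˣ, u ^ 3 = u := by decide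

theorem perm_rot_cube : ∀ s : Equiv.Perm (Fin 3), Equiv.Perm.sign s = 1 → s ^ 3 = 1 := by decide

theorem perm_rot_comm : ∀ s t : Equiv.Perm (Fin 3), Equiv.Perm.sign s = 1 → Equiv.Perm.sign t = 1 →
    s * t = t * s := by decide

theorem perm_invert : ∀ u s : Equiv.Perm (Fin 3), Equiv.Perm.sign s = 1 → s ≠ 1 →
    u * s * u⁻¹ = s⁻¹ → Equiv.Perm.sign u = -1 := by decide

theorem perm_comm_three : ∀ u : Equiv.Perm (Fin 3),
    u * (swap 0 1 * swap 1 2) * u⁻¹ * (swap 0 1 * swap 1 2)⁻¹ = 1 → Equiv.Perm.sign u = 1 := by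
  decide

/-- The value `2 + sign - #fixed points`. -/
def val (s : Equiv.Perm (Fin 3)) : ℤ :=
  2 + ((Equiv.Perm.sign s : ℤˣ) : ℤ) - ((Finset.univ.filter fun i => s i = i).card : ℤ)

theorem val_cases : ∀ s : Equiv.Perm (Fin 3),
    (val s = 0 ∨ val s = 3) ∧ (val s ≠ 0 → Equiv.Perm.sign s = 1 ∧ s ≠ 1) := by decide

theorem sum_val : ∀ i : Fin 3,
    ∑ f ∈ (Finset.univ.filter fun f : P3 => Ev f), val (f i) = 108 := by decide +kernel

theorem card_ev : (Finset.univ.filter fun f : P3 => Ev f).card = 108 := by decide +kernel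

theorem transitive : ∀ (i a b : Fin 3), ∃ f : P3, Ev f ∧ f i a = b := by decide +kernel

theorem rot_eq : ∀ f : P3, Rot f →
    ∃ a b c : Fin 3, f = eV 0 ^ (a : ℕ) * eV 1 ^ (b : ℕ) * eV 2 ^ (c : ℕ) := by decide +kernel

theorem involution_class : ∀ f : P3, Ev f → f * f = 1 → f ≠ 1 →
    ∃ j : Fin 3, Equiv.Perm.sign (f j) = 1 ∧ ∃ y : P3, Ev y ∧ y * f * y⁻¹ = aV j := by decide +kernel

theorem centralizer_aV : ∀ (j : Fin 3) (f : P3), Rot f → f * aV j = aV j * f →
    f = 1 ∨ f = eV j ∨ f = eV j * eV j := by decide +kernel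

theorem ev_pos : ∀ (i : Fin 3) (f : P3), Ev f → Equiv.Perm.sign (f i) = 1 →
    Rot f ∨ Rot (f * aV i) := by decide +kernel

theorem eV_comm_aV : ∀ i, aV i * eV i = eV i * aV i := by decide

theorem aV_sq : ∀ i, aV i * aV i = 1 := by decide

theorem eV_ne_one : ∀ i, eV i ≠ 1 := by decide

theorem comm_aV_eV : ∀ i j, i ≠ j → aV i * eV j * (aV i)⁻¹ * (eV j)⁻¹ = eV j := by decide +kernel

theorem eV_apply_ne : ∀ i, eV i i ≠ 1 := by decide

theorem eV_other : ∀ i j, i ≠ j → eV i j = 1 := by decide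

/-- Permutations of nine points preserving the three blocks. -/
def nine : P3 →* Equiv.Perm (Fin 9) where
  toFun f := finProdFinEquiv.permCongr (Equiv.prodCongrRight f)
  map_one' := Equiv.ext fun x => finProdFinEquiv.symm.injective (by
    simp [Equiv.permCongr_apply, Equiv.prodCongrRight])
  map_mul' f g := Equiv.ext fun x => finProdFinEquiv.symm.injective (by
    simp [Equiv.permCongr_apply, Equiv.prodCongrRight, Equiv.Perm.mul_apply])

theorem nine_injective : Function.Injective nine := by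
  intro f g h
  funext a
  ext b
  have := Equiv.congr_fun h (finProdFinEquiv (a, b))
  simp [nine, Equiv.permCongr_apply] at this
  exact congrArg Fin.val this

/-- The even triples. -/
def evGroup : Subgroup P3 where
  carrier := {f | Ev f}
  one_mem' := by simp [Ev]
  mul_mem' := by
    intro f g hf hg
    have hf' : Equiv.Perm.sign (f 0) * Equiv.Perm.sign (f 1) * Equiv.Perm.sign (f 2) = 1 := hf
    have hg' : Equiv.Perm.sign (g 0) * Equiv.Perm.sign (g 1) * Equiv.Perm.sign (g 2) = 1 := hg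
    show Equiv.Perm.sign _ * Equiv.Perm.sign _ * Equiv.Perm.sign _ = 1
    simp only [Pi.mul_apply, map_mul]
    calc _ = (Equiv.Perm.sign (f 0) * Equiv.Perm.sign (f 1) * Equiv.Perm.sign (f 2)) *
          (Equiv.Perm.sign (g 0) * Equiv.Perm.sign (g 1) * Equiv.Perm.sign (g 2)) := by
            ac_rfl
      _ = 1 := by rw [hf', hg', one_mul]
  inv_mem' := by
    intro f hf
    have hf' : Equiv.Perm.sign (f 0) * Equiv.Perm.sign (f 1) * Equiv.Perm.sign (f 2) = 1 := hf
    show Equiv.Perm.sign _ * Equiv.Perm.sign _ * Equiv.Perm.sign _ = 1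
    simp only [Pi.inv_apply, Equiv.Perm.sign_inv]
    exact hf'

theorem mem_evGroup {f : P3} : f ∈ evGroup ↔ Ev f := Iff.rfl

theorem word_of_ev : ∀ f : P3, Ev f → ∃ a b c : Fin 3, ∃ p q : Fin 2,
    f = eV 0 ^ (a : ℕ) * eV 1 ^ (b : ℕ) * eV 2 ^ (c : ℕ) * aV 2 ^ (p : ℕ) * aV 1 ^ (q : ℕ) := by
  decide +kernel

/-- The generated group of the statement is the image of the even triples. -/
theorem closure_eq : Subgroup.closure ({Equiv.swap (0 : Fin 9) 1 * Equiv.swap 1 2,
      Equiv.swap (3 : Fin 9) 4 * Equiv.swap 4 5, Equiv.swap (6 : Fin 9) 7 * Equiv.swap 7 8,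
      Equiv.swap (0 : Fin 9) 1 * Equiv.swap 3 4, Equiv.swap (0 : Fin 9) 1 * Equiv.swap 6 7} :
        Set (Equiv.Perm (Fin 9))) = evGroup.map nine := by
  have h1 : Equiv.swap (0 : Fin 9) 1 * Equiv.swap 1 2 = nine (eV 0) := by decide +kernel
  have h2 : Equiv.swap (3 : Fin 9) 4 * Equiv.swap 4 5 = nine (eV 1) := by decide +kernel
  have h3 : Equiv.swap (6 : Fin 9) 7 * Equiv.swap 7 8 = nine (eV 2) := by decide +kernel
  have h4 : Equiv.swap (0 : Fin 9) 1 * Equiv.swap 3 4 = nine (aV 2) := by decide +kernel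
  have h5 : Equiv.swap (0 : Fin 9) 1 * Equiv.swap 6 7 = nine (aV 1) := by decide +kernel
  rw [h1, h2, h3, h4, h5]
  refine le_antisymm ((Subgroup.closure_le _).mpr ?_) ?_
  · intro x hx
    simp only [Set.mem_insert_iff, Set.mem_singleton_iff] at hx
    rcases hx with rfl | rfl | rfl | rfl | rfl
    exacts [Subgroup.mem_map_of_mem _ (ev_of_rot (rot_eV 0)),
      Subgroup.mem_map_of_mem _ (ev_of_rot (rot_eV 1)),
      Subgroup.mem_map_of_mem _ (ev_of_rot (rot_eV 2)), Subgroup.mem_map_of_mem _ (ev_aV 2),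
      Subgroup.mem_map_of_mem _ (ev_aV 1)]
  · rintro _ ⟨f, hf, rfl⟩
    obtain ⟨a, b, c, p, q, rfl⟩ := word_of_ev f hf
    simp only [map_mul, map_pow]
    refine mul_mem (mul_mem (mul_mem (mul_mem ?_ ?_) ?_) ?_) ?_ <;>
      refine pow_mem (Subgroup.subset_closure ?_) _ <;> simp

end CfsgLib.ThreeCubedTI
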