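import Mathlib
import Cfsg.Agent.Lib.ThreeCubedTI.Model

/-!
A subgroup `H ≅ 3³:2²` which is the normalizer of its `3³` and contains the centralizers of the
nontrivial elements of it: consequences for fusion.
-/

set_option autoImplicit false

namespace CfsgLib.ThreeCubedTI

universe u

variable {G : Type u} [Group G]

/-- Coordinates on `H = N(T)`. -/
structure Data (H T : Subgroup G) (Φ : H →* P3) : Prop where
  inj : Function.Injective Φ
  even : ∀ n, Ev (Φ n)
  surj : ∀ f, Ev f → ∃ n, Φ n = f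
  T_le : T ≤ H
  memT : ∀ n : H, (n : G) ∈ T ↔ Rot (Φ n)
  norm : Subgroup.normalizer (T : Set G) = H
  loc : ∀ t ∈ T, t ≠ 1 → Subgroup.centralizer ({t} : Set G) ≤ H

namespace Data

variable {H T : Subgroup G} {Φ : H →* P3}

theorem sq_mem (D : Data H T Φ) (n : H) : ((n * n : H) : G) ∈ T :=
  (D.memT _).mpr fun i => by
    rw [map_mul, Pi.mul_apply, map_mul]; exact Int.units_mul_self _

theorem cube (D : Data H T Φ) {t : G} (ht : t ∈ T) : t ^ 3 = 1 := by
  have h : (⟨t, D.T_le ht⟩ : H) ^ 3 = 1 := D.inj (by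
    rw [map_pow, map_one]
    funext i
    exact perm_rot_cube _ ((D.memT ⟨t, D.T_le ht⟩).mp ht i))
  exact congrArg Subtype.val h

theorem comm (D : Data H T Φ) {s t : G} (hs : s ∈ T) (ht : t ∈ T) : s * t = t * s := by
  have h : (⟨s, D.T_le hs⟩ : H) * ⟨t, D.T_le ht⟩ = ⟨t, D.T_le ht⟩ * ⟨s, D.T_le hs⟩ := D.inj (by
    rw [map_mul, map_mul]
    funext i
    exact perm_rot_comm _ _ ((D.memT ⟨s, D.T_le hs⟩).mp hs i) ((D.memT ⟨t, D.T_le ht⟩).mp ht i))
  exact congrArg Subtype.val h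

theorem isPGroup (D : Data H T Φ) : IsPGroup 3 T :=
  fun t => ⟨1, Subtype.ext (by simpa using D.cube t.2)⟩

theorem mem_of_pow (D : Data H T Φ) (n : H) {r : ℕ} (h : (n : G) ^ 3 ^ r = 1) : (n : G) ∈ T := by
  refine (D.memT n).mpr fun i => ?_
  have h' : n ^ 3 ^ r = 1 := Subtype.ext (by simpa using h)
  have h1 : ∀ k : ℕ, Equiv.Perm.sign (Φ n i) ^ 3 ^ k = Equiv.Perm.sign (Φ n i) := by
    intro k
    induction k with
    | zero => simp
    | succ k ih => rw [pow_succ, pow_mul, ih, units_odd_pow]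
  rw [← h1 r, ← map_pow, ← Pi.pow_apply, ← map_pow, h', map_one, Pi.one_apply, map_one]

theorem conj_eq (D : Data H T Φ) {k g : G} (hk : k ∈ T) (hk1 : k ≠ 1) (hg : g * k * g⁻¹ ∈ T)
    [Finite G] : g ∈ H := by
  have hk' : g * k * g⁻¹ ≠ 1 := fun e => hk1 (conj_eq_one_iff.mp e)
  have hle : T.map (MulAut.conj g).toMonoidHom ≤ T := by
    rintro _ ⟨m, hm, rfl⟩
    have hmH : g * m * g⁻¹ ∈ H := D.loc _ hg hk' (Subgroup.mem_centralizer_singleton_iff.mpr (by
      calc g * m * g⁻¹ * (g * k * g⁻¹) = g * (m * k) * g⁻¹ := by group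
        _ = g * (k * m) * g⁻¹ := by rw [D.comm hm hk]
        _ = _ := by group))
    refine D.mem_of_pow ⟨_, hmH⟩ (r := 1) ?_
    show (g * m * g⁻¹) ^ 3 ^ 1 = 1
    rw [pow_one, conj_pow, D.cube hm, mul_one, mul_inv_cancel]
  have he : T.map (MulAut.conj g).toMonoidHom = T := Subgroup.eq_of_le_of_card_ge hle
    (le_of_eq (Subgroup.card_map_of_injective (MulAut.conj g).injective).symm)
  rw [← D.norm, Subgroup.mem_normalizer_iff]
  intro m
  constructor
  · intro hm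
    have : g * m * g⁻¹ ∈ T.map (MulAut.conj g).toMonoidHom := ⟨m, hm, rfl⟩
    rwa [he] at this
  · intro hm
    rw [← he] at hm
    obtain ⟨m', hm', e⟩ := hm
    have : m' = m := (MulAut.conj g).injective e
    exact this ▸ hm'

theorem maximal (D : Data H T Φ) [Finite G] (Q : Subgroup G) (hQ : IsPGroup 3 Q) (hle : T ≤ Q) :
    Q = T := by
  haveI : Fact (Nat.Prime 3) := ⟨Nat.prime_three⟩
  by_contra hne
  haveI := hQ.isNilpotent
  have hlt : T.subgroupOf Q < ⊤ := lt_top_iff_ne_top.mpr fun e =>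
    hne (le_antisymm (Subgroup.subgroupOf_eq_top.mp e) hle)
  obtain ⟨⟨r, hrQ⟩, hr, hrn⟩ :=
    SetLike.exists_of_lt (Group.normalizerCondition_of_isNilpotent _ hlt)
  rw [Subgroup.mem_subgroupOf] at hrn
  obtain ⟨t, ht, ht1⟩ : ∃ t ∈ T, t ≠ 1 := by
    obtain ⟨n, hn⟩ := D.surj (eV 0) (ev_of_rot (rot_eV 0))
    exact ⟨n, (D.memT n).mpr (hn ▸ rot_eV 0), fun e => eV_ne_one 0 (by
      rw [← hn, show n = 1 from Subtype.ext e, map_one])⟩
  have hrH : r ∈ H := D.conj_eq ht ht1 (Subgroup.mem_subgroupOf.mp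
    ((Subgroup.mem_normalizer_iff.mp hr ⟨t, hle ht⟩).mp (Subgroup.mem_subgroupOf.mpr ht)))
  obtain ⟨n, hn⟩ := hQ ⟨r, hrQ⟩
  exact hrn (D.mem_of_pow ⟨r, hrH⟩ (r := n) (by simpa using congrArg Subtype.val hn))

theorem E_mem (D : Data H T Φ) {n : H} {i : Fin 3} (hn : Φ n = eV i) : (n : G) ∈ T :=
  (D.memT n).mpr (hn ▸ rot_eV i)

theorem E_ne {n : H} {i : Fin 3} (hn : Φ n = eV i) : (n : G) ≠ 1 := fun e => eV_ne_one i (by
  rw [← hn, show n = 1 from Subtype.ext e, map_one])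

/-- The three involution classes of `H` do not fuse in `G`. -/
theorem not_isConj (D : Data H T Φ) [Finite G] {a b : H} {i j : Fin 3} (hij : i ≠ j)
    (ha : Φ a = aV i) (hb : Φ b = aV j) : ¬ IsConj (a : G) (b : G) := by
  haveI : Fact (Nat.Prime 3) := ⟨Nat.prime_three⟩
  intro hc
  obtain ⟨g, hg⟩ := isConj_iff.mp hc
  obtain ⟨x, hx⟩ := D.surj (eV i) (ev_of_rot (rot_eV i))
  obtain ⟨y, hy⟩ := D.surj (eV j) (ev_of_rot (rot_eV j))
  have hax : a * x = x * a := D.inj (by rw [map_mul, map_mul, ha, hx, eV_comm_aV])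
  have hby : b * y = y * b := D.inj (by rw [map_mul, map_mul, hb, hy, eV_comm_aV])
  let C := Subgroup.centralizer ({(b : G)} : Set G)
  have hyC : (y : G) ∈ C :=
    Subgroup.mem_centralizer_singleton_iff.mpr (congrArg Subtype.val hby).symm
  let yC : C := ⟨y, hyC⟩
  have hy3 : orderOf (y : G) = 3 := orderOf_eq_prime (p := 3) (D.cube (D.E_mem hy)) (E_ne hy)
  have hYp : IsPGroup 3 (Subgroup.zpowers yC) :=
    IsPGroup.of_card (n := 1) (by rw [Nat.card_zpowers, ← Subgroup.orderOf_coe, hy3, pow_one])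
  obtain ⟨S, hS⟩ := hYp.exists_le_sylow
  have hSeq : (S : Subgroup C) = Subgroup.zpowers yC := by
    refine le_antisymm (fun s hs => ?_) hS
    by_contra hns
    have hlt : Subgroup.zpowers yC < (S : Subgroup C) :=
      lt_of_le_of_ne hS fun e => hns (e ▸ hs)
    haveI := S.2.isNilpotent
    have hn := Group.normalizerCondition_of_isNilpotent
      ((Subgroup.zpowers yC).subgroupOf (S : Subgroup C))
      (lt_top_iff_ne_top.mpr fun e => hlt.not_ge (Subgroup.subgroupOf_eq_top.mp e))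
    obtain ⟨⟨r, hrS⟩, hr, hrn⟩ := SetLike.exists_of_lt hn
    rw [Subgroup.mem_subgroupOf] at hrn
    obtain ⟨k, hk⟩ := Subgroup.mem_subgroupOf.mp ((Subgroup.mem_normalizer_iff.mp hr
      ⟨yC, hS (Subgroup.mem_zpowers _)⟩).mp (Subgroup.mem_subgroupOf.mpr (Subgroup.mem_zpowers _)))
    have hk' : (y : G) ^ k = (r : G) * y * (r : G)⁻¹ := by
      have := congrArg Subtype.val hk
      simpa [yC] using this
    have hrH : (r : G) ∈ H :=
      D.conj_eq (D.E_mem hy) (E_ne hy) (hk' ▸ zpow_mem (D.E_mem hy) k)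
    obtain ⟨m, hm⟩ := S.2 ⟨r, hrS⟩
    have hrT : (r : G) ∈ T := by
      refine D.mem_of_pow ⟨r, hrH⟩ (r := m) ?_
      have := congrArg (fun u : (S : Subgroup C) => ((u : C) : G)) hm
      simpa using this
    have hrc : (⟨(r : G), hrH⟩ : H) * b = b * ⟨(r : G), hrH⟩ :=
      Subtype.ext (Subgroup.mem_centralizer_singleton_iff.mp r.2)
    have hΦ := congrArg Φ hrc
    rw [map_mul, map_mul, hb] at hΦ
    refine hrn ?_
    show r ∈ Subgroup.zpowers yC
    rcases centralizer_aV j _ ((D.memT ⟨(r : G), hrH⟩).mp hrT) hΦ with e | e | e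
    · have : r = 1 := Subtype.ext (congrArg Subtype.val (D.inj (e.trans (map_one Φ).symm)) :)
      rw [this]; exact one_mem _
    · have : r = yC := Subtype.ext (congrArg Subtype.val (D.inj (e.trans hy.symm)) :)
      rw [this]; exact Subgroup.mem_zpowers _
    · have : r = yC * yC := Subtype.ext (congrArg Subtype.val
        (D.inj (e.trans (by rw [map_mul, hy] : eV j * eV j = Φ (y * y)))) :)
      rw [this]; exact mul_mem (Subgroup.mem_zpowers _) (Subgroup.mem_zpowers _)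
  have hgx : g * (x : G) * g⁻¹ ∈ C := Subgroup.mem_centralizer_singleton_iff.mpr (by
    have e : (x : G) * a = a * x := (congrArg Subtype.val hax).symm
    rw [← hg]
    calc g * (x : G) * g⁻¹ * (g * a * g⁻¹) = g * ((x : G) * a) * g⁻¹ := by group
      _ = g * ((a : G) * x) * g⁻¹ := by rw [e]
      _ = _ := by group)
  have hXp : IsPGroup 3 (Subgroup.zpowers (⟨_, hgx⟩ : C)) := IsPGroup.of_card (n := 1) (by
    rw [Nat.card_zpowers, ← Subgroup.orderOf_coe, pow_one]
    show orderOf (MulAut.conj g (x : G)) = 3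
    rw [MulEquiv.orderOf_eq]
    exact orderOf_eq_prime (p := 3) (D.cube (D.E_mem hx)) (E_ne hx))
  obtain ⟨S', hS'⟩ := hXp.exists_le_sylow
  obtain ⟨c, hc'⟩ := MulAction.exists_smul_eq C S' S
  have hmem : c * ⟨_, hgx⟩ * c⁻¹ ∈ (S : Subgroup C) := by
    rw [← hc']
    exact ⟨⟨_, hgx⟩, hS' (Subgroup.mem_zpowers _), rfl⟩
  rw [hSeq] at hmem
  obtain ⟨k, hk⟩ := hmem
  have hk' : (y : G) ^ k = ((c : G) * g) * x * ((c : G) * g)⁻¹ := by
    have := congrArg Subtype.val hk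
    simp only [yC, SubgroupClass.coe_zpow, Subgroup.coe_mul, InvMemClass.coe_inv] at this
    rw [this]; group
  have hN := D.conj_eq (D.E_mem hx) (E_ne hx) (hk' ▸ zpow_mem (D.E_mem hy) k)
  have hH : y ^ k = ⟨_, hN⟩ * x * (⟨_, hN⟩ : H)⁻¹ := Subtype.ext (by simpa using hk')
  have hΦ := congrFun (congrArg Φ hH) i
  rw [map_zpow, map_mul, map_mul, map_inv, hy, hx] at hΦ
  simp only [Pi.pow_apply, Pi.mul_apply, Pi.inv_apply, eV_other j i hij.symm, one_zpow] at hΦ
  exact eV_apply_ne i (conj_eq_one_iff.mp hΦ.symm)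

end Data

end CfsgLib.ThreeCubedTI
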