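import Mathlib
import Cfsg.Agent.Lib.ThreeCubedTI.Setup
import Cfsg.Agent.Lib.NineTI.Isolated

/-!
Each of the three involution classes of `H` lies in a proper normal subgroup of `G`.
-/

set_option autoImplicit false

namespace CfsgLib.ThreeCubedTI

open Cfsg CfsgLib.Char
open scoped ComplexConjugate

universe u

variable {G : Type u} [Group G] {H T : Subgroup G} {Φ : H →* P3}

theorem Data.sum_val (D : Data H T Φ) [Fintype H] (i : Fin 3) :
    ∑ n : H, val (Φ n i) = 108 := by
  classical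
  rw [← ThreeCubedTI.sum_val i]
  refine Finset.sum_bij (fun n _ => Φ n) (fun n _ => Finset.mem_filter.mpr
    ⟨Finset.mem_univ _, D.even n⟩) (fun a _ b _ h => D.inj h) (fun f hf => ?_) (fun _ _ => rfl)
  obtain ⟨n, hn⟩ := D.surj f (Finset.mem_filter.mp hf).2
  exact ⟨n, Finset.mem_univ _, hn⟩

theorem Data.card (D : Data H T Φ) [Fintype H] : Nat.card H = 108 := by
  classical
  rw [Nat.card_eq_fintype_card, ← Finset.card_univ, ← ThreeCubedTI.card_ev]
  refine Finset.card_bij (fun n _ => Φ n) (fun n _ => Finset.mem_filter.mpr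
    ⟨Finset.mem_univ _, D.even n⟩) (fun a _ b _ h => D.inj h) (fun f hf => ?_)
  obtain ⟨n, hn⟩ := D.surj f (Finset.mem_filter.mp hf).2
  exact ⟨n, Finset.mem_univ _, hn⟩

variable [Finite G]

theorem Data.exists_normal (D : Data H T Φ) {a : H} {i : Fin 3} (ha : Φ a = aV i) :
    ∃ K : Subgroup G, K.Normal ∧ K ≠ ⊤ ∧ (a : G) ∈ K := by
  classical
  haveI : Fintype H := Fintype.ofFinite H
  let π : H →* Equiv.Perm (Fin 3) := (Pi.evalMonoidHom (fun _ : Fin 3 => Equiv.Perm (Fin 3)) i).comp Φ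
  letI : MulAction H (Fin 3) := MulAction.compHom _ π
  haveI : MulAction.IsPretransitive H (Fin 3) := ⟨fun p q => by
    obtain ⟨f, hf, e⟩ := transitive i p q
    obtain ⟨n, hn⟩ := D.surj f hf
    refine ⟨n, ?_⟩
    show Φ n i p = q
    rw [hn, e]⟩
  let sgn : H →* ℂˣ := (Units.map ((Int.castRingHom ℂ).toMonoidHom)).comp (Equiv.Perm.sign.comp π)
  let f : H → ℂ := fun n => 2 + (sgn n : ℂ) - (Nat.card (MulAction.fixedBy (Fin 3) n) : ℂ)
  have hgen : IsGeneralizedCharacter H f := by
    have h2 : IsCharacter H (fun _ : H => (2 : ℂ)) := by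
      have := isCharacter_add (isCharacter_one (G := H)) (isCharacter_one (G := H))
      have e : ((fun _ : H => (1 : ℂ)) + fun _ => 1) = fun _ => 2 := funext fun _ => by
        simp [one_add_one_eq_two]
      exact e ▸ this
    exact isGeneralized_sub (isGeneralized_of_isCharacter (isCharacter_add h2
      (isCharacter_monoidHom sgn))) (isGeneralized_of_isCharacter (isCharacter_perm (Fin 3)))
  have hfval : ∀ n : H, f n = (val (Φ n i) : ℂ) := by
    intro n
    have hfix : Nat.card (MulAction.fixedBy (Fin 3) n) =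
        (Finset.univ.filter fun p => Φ n i p = p).card := by
      rw [← Fintype.card_subtype, ← Nat.card_eq_fintype_card]
      rfl
    simp only [f, hfix, val]
    push_cast
    rfl
  let S : Set G := {g | ∃ n : H, (n : G) = g ∧ val (Φ n i) ≠ 0}
  have hsq : ∀ n : H, val (Φ n i) ≠ 0 →
      Equiv.Perm.sign (Φ n i) = 1 ∧ Φ n i ≠ 1 ∧ ((n * n : H) : G) ≠ 1 := by
    intro n hn
    obtain ⟨hs, hne⟩ := (val_cases _).2 hn
    refine ⟨hs, hne, fun e => hne ?_⟩
    have e' := congrFun (congrArg Φ (show n * n = 1 from Subtype.ext e)) i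
    rw [map_mul, map_one, Pi.mul_apply, Pi.one_apply] at e'
    have h3 := perm_rot_cube _ hs
    rwa [pow_succ, pow_two, e', one_mul] at h3
  have hTI : ∀ g : G, g ∉ H → ∀ t ∈ S, g * t * g⁻¹ ∈ S → t = 1 := by
    rintro g hg _ ⟨n, rfl, hn⟩ ⟨n', e', -⟩
    exfalso
    refine hg (D.conj_eq (D.sq_mem n) (hsq n hn).2.2 ?_)
    have e : g * ((n * n : H) : G) * g⁻¹ = ((n' * n' : H) : G) := by
      simp only [Subgroup.coe_mul, e']
      group
    exact e ▸ D.sq_mem n'
  have hsupp : ∀ n : H, (n : G) ∉ S → f n = 0 := by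
    intro n hn
    by_contra hne
    exact hn ⟨n, rfl, fun e => hne (by rw [hfval, e, Int.cast_zero])⟩
  have h1 : f 1 = 0 := by
    rw [hfval, map_one, Pi.one_apply, show val 1 = 0 by decide, Int.cast_zero]
  have hone : classInner f (fun _ => (1 : ℂ)) = 1 := by
    simp only [classInner, map_one, mul_one, hfval]
    rw [← Int.cast_sum, D.sum_val i, D.card]
    norm_num
  have hnorm : classInner f f = 3 := by
    have e : classInner f f = 3 * classInner f (fun _ => (1 : ℂ)) := by
      simp only [classInner, Finset.mul_sum]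
      refine Finset.sum_congr rfl fun n _ => ?_
      rcases (val_cases (Φ n i)).1 with e | e <;> rw [hfval n, e] <;> push_cast <;>
        simp only [map_zero, map_ofNat, map_one] <;> ring
    rw [e, hone, mul_one]
  have haa : (a : G) * a = 1 := by
    have : a * a = 1 := D.inj (by rw [map_mul, ha, aV_sq, map_one])
    exact congrArg Subtype.val this
  refine NineTI.exists_normal_of_norm_three H S hTI f hgen hsupp h1 hnorm hone a ?_ ?_
  · rintro g ⟨n, e, hn⟩
    apply (hsq n hn).2.2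
    rw [Subgroup.coe_mul, e]
    rw [show g * (a : G) * g⁻¹ * (g * a * g⁻¹) = g * ((a : G) * a) * g⁻¹ by group, haa, mul_one,
      mul_inv_cancel]
  intro n hn u v hu hv e
  have hinv : ∀ w : G, IsConj (a : G) w → w * w = 1 := by
    intro w hw
    obtain ⟨g, rfl⟩ := isConj_iff.mp hw
    rw [show g * (a : G) * g⁻¹ * (g * a * g⁻¹) = g * ((a : G) * a) * g⁻¹ by group, haa, mul_one,
      mul_inv_cancel]
  have huu := hinv u hu
  have hu' : u⁻¹ = u := inv_eq_of_mul_eq_one_left huu
  have hnu : u * n * u⁻¹ = (n : G)⁻¹ := by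
    rw [hu', ← e, mul_inv_rev, hu', inv_eq_of_mul_eq_one_left (hinv v hv)]
    calc u * (u * v) * u = (u * u) * (v * u) := by group
      _ = v * u := by rw [huu, one_mul]
  have hn' : val (Φ n i) ≠ 0 := fun e => hn (by rw [hfval, e, Int.cast_zero])
  obtain ⟨hs, hne, hnn⟩ := hsq n hn'
  have hnu2 : u * ((n * n : H) : G) * u⁻¹ = ((n * n : H) : G)⁻¹ := by
    rw [Subgroup.coe_mul, show u * ((n : G) * n) * u⁻¹ = (u * n * u⁻¹) * (u * n * u⁻¹) by group,
      hnu, mul_inv_rev]
  have huH : u ∈ H := D.conj_eq (D.sq_mem n) hnn (hnu2 ▸ inv_mem (D.sq_mem n))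
  let uH : H := ⟨u, huH⟩
  have hΦu : Φ uH * Φ n * (Φ uH)⁻¹ = (Φ n)⁻¹ := by
    rw [← map_mul, ← map_inv, ← map_mul, ← map_inv]
    exact congrArg Φ (Subtype.ext hnu)
  have hsu : Equiv.Perm.sign (Φ uH i) = -1 := perm_invert _ _ hs hne (congrFun hΦu i)
  have hu1 : Φ uH ≠ 1 := fun e => by
    rw [e, Pi.one_apply, map_one] at hsu
    exact absurd hsu (by decide)
  have hu2 : Φ uH * Φ uH = 1 := by
    rw [← map_mul, show uH * uH = 1 from Subtype.ext huu, map_one]
  obtain ⟨j, hj, y, hy, he⟩ := involution_class _ (D.even uH) hu2 hu1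
  have hji : i ≠ j := by
    rintro rfl
    rw [hj] at hsu
    exact absurd hsu (by decide)
  obtain ⟨w, hw⟩ := D.surj y hy
  have hb : Φ (w * uH * w⁻¹) = aV j := by rw [map_mul, map_mul, map_inv, hw, he]
  refine D.not_isConj hji ha hb (hu.trans ?_)
  exact isConj_iff.mpr ⟨(w : G), rfl⟩

end CfsgLib.ThreeCubedTI
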