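import Mathlib
import Cfsg.Agent.Lib.ThreeCubedTI.CharStep
import Cfsg.Agent.Lib.Transfer.Focal
import Cfsg.Agent.Lib.Coprime.Generation

/-!
`H = ⊤`: two of the normal subgroups meet in a group with a self-normalizing central Sylow
3-subgroup of order three.
-/

set_option autoImplicit false

namespace CfsgLib.ThreeCubedTI

open scoped commutatorElement

universe u

variable {G : Type u} [Group G] {H T : Subgroup G} {Φ : H →* P3}

namespace Data

theorem T_le_of_mem (D : Data H T Φ) {K : Subgroup G}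
    (hK : ∀ (j : Fin 3) (n : H), Φ n = eV j → (n : G) ∈ K) : T ≤ K := by
  intro t ht
  obtain ⟨a, b, c, e⟩ := rot_eq _ ((D.memT ⟨t, D.T_le ht⟩).mp ht)
  obtain ⟨x, hx⟩ := D.surj (eV 0) (ev_of_rot (rot_eV 0))
  obtain ⟨y, hy⟩ := D.surj (eV 1) (ev_of_rot (rot_eV 1))
  obtain ⟨z, hz⟩ := D.surj (eV 2) (ev_of_rot (rot_eV 2))
  have h : (⟨t, D.T_le ht⟩ : H) = x ^ (a : ℕ) * y ^ (b : ℕ) * z ^ (c : ℕ) := D.inj (by
    rw [e, map_mul, map_mul, map_pow, map_pow, map_pow, hx, hy, hz])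
  rw [show t = ((x ^ (a : ℕ) * y ^ (b : ℕ) * z ^ (c : ℕ) : H) : G) from congrArg Subtype.val h]
  simp only [Subgroup.coe_mul, SubmonoidClass.coe_pow]
  exact mul_mem (mul_mem (pow_mem (hK 0 x hx) _) (pow_mem (hK 1 y hy) _)) (pow_mem (hK 2 z hz) _)

variable [Finite G]

/-- A normal subgroup containing `e_j` for `j ≠ i` and avoiding `e_i`. -/
theorem exists_hyperplane (D : Data H T Φ) (i : Fin 3) :
    ∃ L : Subgroup G, L.Normal ∧ (∀ (j : Fin 3) (n : H), j ≠ i → Φ n = eV j → (n : G) ∈ L) ∧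
      ∀ n : H, Φ n = eV i → (n : G) ∉ L := by
  classical
  haveI : Fact (Nat.Prime 3) := ⟨Nat.prime_three⟩
  obtain ⟨a, ha⟩ := D.surj (aV i) (ev_aV i)
  obtain ⟨K, hK, hKtop, haK⟩ := D.exists_normal ha
  have hcomm : ∀ (j : Fin 3) (n : H), j ≠ i → Φ n = eV j → ⁅(a : G), (n : G)⁆ = n := by
    intro j n hji hn
    have : ⁅a, n⁆ = n := D.inj (by
      rw [commutatorElement_def, map_mul, map_mul, map_mul, map_inv, map_inv, ha, hn,
        comm_aV_eV i j hji.symm])
    exact congrArg Subtype.val this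
  have hjK : ∀ (j : Fin 3) (n : H), j ≠ i → Φ n = eV j → (n : G) ∈ K := by
    intro j n hji hn
    rw [← hcomm j n hji hn, commutatorElement_def]
    rw [show (a : G) * n * (a : G)⁻¹ * (n : G)⁻¹ = a * (n * (a : G)⁻¹ * (n : G)⁻¹) by group]
    exact mul_mem haK (hK.conj_mem _ (inv_mem haK) _)
  by_cases hiK : ∀ n : H, Φ n = eV i → (n : G) ∈ K
  swap
  · refine ⟨K, hK, hjK, fun n hn hnK => hiK fun m hm => ?_⟩
    rwa [show m = n from D.inj (hm.trans hn.symm)]
  have hTK : T ≤ K := D.T_le_of_mem fun j n hn => by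
    by_cases hji : j = i
    · exact hiK n (hji ▸ hn)
    · exact hjK j n hji hn
  let PM : Sylow 3 G := ⟨T, D.isPGroup, fun hQ hle => D.maximal _ hQ hle⟩
  let PK : Sylow 3 K := PM.subtype hTK
  haveI := hK
  have hmap : (PK : Subgroup K).map K.subtype = T := by
    show (T.subgroupOf K).map K.subtype = T
    rw [Subgroup.subgroupOf_map_subtype, inf_eq_left.mpr hTK]
  have hpos : ∀ n : H, Equiv.Perm.sign (Φ n i) = 1 → (n : G) ∈ K := by
    intro n hn
    rcases ev_pos i _ (D.even n) hn with h | h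
    · exact hTK ((D.memT n).mpr h)
    · have h' := hTK ((D.memT (n * a)).mpr (by rwa [map_mul, ha]))
      rw [Subgroup.coe_mul] at h'
      have := mul_mem h' (inv_mem haK)
      rwa [mul_inv_cancel_right] at this
  have hsgn : ∀ n : H, (n : G) ∈ K → Equiv.Perm.sign (Φ n i) = 1 := by
    intro k hk
    rcases Int.units_eq_one_or (Equiv.Perm.sign (Φ k i)) with h | h
    · exact h
    exfalso
    apply hKtop
    have hfr := PK.normalizer_sup_eq_top
    rw [hmap, sup_eq_right.mpr ?_] at hfr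
    · exact hfr
    intro n hn
    rw [D.norm] at hn
    rcases Int.units_eq_one_or (Equiv.Perm.sign (Φ ⟨n, hn⟩ i)) with h' | h'
    · exact hpos ⟨n, hn⟩ h'
    · have h2 := hpos (⟨n, hn⟩ * k) (by rw [map_mul, Pi.mul_apply, map_mul, h, h']; rfl)
      have := mul_mem h2 (inv_mem hk)
      rwa [Subgroup.coe_mul, mul_inv_cancel_right] at this
  refine ⟨⁅K, K⁆, inferInstance, fun j n hji hn => ?_, fun n hn hnL => ?_⟩
  · have h1 := Subgroup.commutator_mem_commutator haK (hjK j n hji hn)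
    rwa [hcomm j n hji hn] at h1
  have hnT := D.E_mem hn
  have hnK : (n : G) ∈ K := hTK hnT
  have hn' : (⟨(n : G), hnK⟩ : K) ∈ commutator K ⊓ (PK : Subgroup K) := by
    refine ⟨?_, Subgroup.mem_subgroupOf.mpr hnT⟩
    rw [← Subgroup.map_subtype_commutator] at hnL
    obtain ⟨w, hw, e⟩ := hnL
    exact (Subtype.ext e : w = ⟨(n : G), hnK⟩) ▸ hw
  haveI : IsMulCommutative (PK : Subgroup K) := ⟨⟨fun p q => Subtype.ext (Subtype.ext
    (D.comm (Subgroup.mem_subgroupOf.mp p.2) (Subgroup.mem_subgroupOf.mp q.2)))⟩⟩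
  rw [CfsgLib.Transfer.commutator_inf_sylow_eq_normalizer PK inferInstance] at hn'
  have hW : ∀ k : K, k ∈ Subgroup.normalizer ((PK : Subgroup K) : Set K) → (k : G) ∈ H := by
    intro k hk
    exact D.conj_eq hnT (E_ne hn) (Subgroup.mem_subgroupOf.mp
      ((Subgroup.mem_normalizer_iff.mp hk ⟨(n : G), hnK⟩).mp (Subgroup.mem_subgroupOf.mpr hnT)))
  let L₀ : Subgroup H := ((Pi.evalMonoidHom (fun _ : Fin 3 => Equiv.Perm (Fin 3)) i).comp Φ).ker
  have hle : ⁅Subgroup.normalizer ((PK : Subgroup K) : Set K),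
      Subgroup.normalizer ((PK : Subgroup K) : Set K)⁆ ≤ (L₀.map H.subtype).subgroupOf K := by
    rw [Subgroup.commutator_le]
    intro p hp q hq
    refine Subgroup.mem_subgroupOf.mpr ⟨⁅(⟨(p : G), hW p hp⟩ : H), ⟨(q : G), hW q hq⟩⁆, ?_, rfl⟩
    show (Φ ⁅(⟨(p : G), hW p hp⟩ : H), ⟨(q : G), hW q hq⟩⁆) i = 1
    rw [commutatorElement_def, map_mul, map_mul, map_mul, map_inv, map_inv]
    simp only [Pi.mul_apply, Pi.inv_apply]
    rw [perm_rot_comm _ _ (hsgn ⟨_, hW p hp⟩ p.2) (hsgn ⟨_, hW q hq⟩ q.2)]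
    group
  obtain ⟨m, hm, e⟩ := Subgroup.mem_subgroupOf.mp (hle hn'.1)
  have hmn : m = n := Subtype.ext e
  rw [hmn] at hm
  have : Φ n i = 1 := hm
  rw [hn] at this
  exact eV_apply_ne i this

theorem eq_top (D : Data H T Φ) : H = ⊤ := by
  classical
  haveI : Fact (Nat.Prime 3) := ⟨Nat.prime_three⟩
  obtain ⟨L0, hL0, hin0, hout0⟩ := D.exists_hyperplane 0
  obtain ⟨L1, hL1, hin1, hout1⟩ := D.exists_hyperplane 1
  obtain ⟨x, hx⟩ := D.surj (eV 0) (ev_of_rot (rot_eV 0))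
  obtain ⟨y, hy⟩ := D.surj (eV 1) (ev_of_rot (rot_eV 1))
  obtain ⟨z, hz⟩ := D.surj (eV 2) (ev_of_rot (rot_eV 2))
  let M : Subgroup G := L0 ⊓ L1
  haveI : M.Normal := Subgroup.normal_inf_normal L0 L1
  have hzM : (z : G) ∈ M := ⟨hin0 2 z (by decide) hz, hin1 2 z (by decide) hz⟩
  have hzT := D.E_mem hz
  have hz1 := E_ne hz
  -- `T ⊓ M = ⟨z⟩`
  have hTM : ∀ n : H, (n : G) ∈ T → (n : G) ∈ M →
      Φ n 0 = 1 ∧ Φ n 1 = 1 ∧ (n : G) ∈ Subgroup.zpowers (z : G) := by
    intro n hnT hnM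
    obtain ⟨a, b, c, e⟩ := rot_eq _ ((D.memT n).mp hnT)
    have hn : n = x ^ (a : ℕ) * y ^ (b : ℕ) * z ^ (c : ℕ) := D.inj (by
      rw [e, map_mul, map_mul, map_pow, map_pow, map_pow, hx, hy, hz])
    have hcyc : ∀ (w : H) (hw : (w : G) ∈ T) (L : Subgroup G) (k : Fin 3),
        (w : G) ^ (k : ℕ) ∈ L → (w : G) ∉ L → (k : ℕ) = 0 := by
      intro w hw L k hk hwL
      rcases k with ⟨k, hk3⟩
      interval_cases k
      · rfl
      · exact absurd (by simpa using hk) hwL
      · refine absurd ?_ hwL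
        have := L.inv_mem hk
        rwa [inv_eq_of_mul_eq_one_right (b := (w : G)) (by
          rw [show ((⟨2, hk3⟩ : Fin 3) : ℕ) = 2 from rfl, ← pow_succ, D.cube hw])] at this
    have hnG : (n : G) = (x : G) ^ (a : ℕ) * (y : G) ^ (b : ℕ) * (z : G) ^ (c : ℕ) := by
      rw [hn]; simp
    have ha0 : (a : ℕ) = 0 := by
      refine hcyc x (D.E_mem hx) L0 a ?_ (hout0 x hx)
      have h1 : (y : G) ^ (b : ℕ) * (z : G) ^ (c : ℕ) ∈ L0 :=
        mul_mem (pow_mem (hin0 1 y (by decide) hy) _) (pow_mem (hin0 2 z (by decide) hz) _)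
      have h2 := L0.mul_mem (Subgroup.mem_inf.mp hnM).1 (L0.inv_mem h1)
      rwa [hnG, mul_assoc ((x : G) ^ (a : ℕ)), mul_inv_cancel_right] at h2
    have hb0 : (b : ℕ) = 0 := by
      refine hcyc y (D.E_mem hy) L1 b ?_ (hout1 y hy)
      have h2 := L1.mul_mem (Subgroup.mem_inf.mp hnM).2 (L1.inv_mem (pow_mem (hin1 2 z (by decide) hz) (c : ℕ)))
      rwa [hnG, ha0, pow_zero, one_mul, mul_inv_cancel_right] at h2
    rw [ha0, hb0, pow_zero, pow_zero, one_mul, one_mul] at e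
    refine ⟨?_, ?_, ?_⟩
    · rw [e, Pi.pow_apply, eV_other 2 0 (by decide), one_pow]
    · rw [e, Pi.pow_apply, eV_other 2 1 (by decide), one_pow]
    · rw [hnG, ha0, hb0, pow_zero, pow_zero, one_mul, one_mul]
      exact Subgroup.npow_mem_zpowers _ _
  -- `H ⊓ M = ⟨z⟩`
  have hHM : ∀ n : H, (n : G) ∈ M → (n : G) ∈ Subgroup.zpowers (z : G) := by
    intro n hnM
    have hsx : ∀ (w : H) (j : Fin 3), Φ w = eV j → ((n * w * n⁻¹ * w⁻¹ : H) : G) ∈ M ∧
        ((n * w * n⁻¹ * w⁻¹ : H) : G) ∈ T := by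
      intro w j hw
      refine ⟨?_, ?_⟩
      · simp only [Subgroup.coe_mul, InvMemClass.coe_inv]
        rw [show (n : G) * w * (n : G)⁻¹ * (w : G)⁻¹ = n * (w * (n : G)⁻¹ * (w : G)⁻¹) by group]
        exact mul_mem hnM (Subgroup.Normal.conj_mem inferInstance _ (inv_mem hnM) _)
      · simp only [Subgroup.coe_mul, InvMemClass.coe_inv]
        have hnN : (n : G) ∈ Subgroup.normalizer (T : Set G) := by rw [D.norm]; exact n.2
        exact mul_mem ((Subgroup.mem_normalizer_iff.mp hnN w).mp (D.E_mem hw))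
          (inv_mem (D.E_mem hw))
    have hs0 : Equiv.Perm.sign (Φ n 0) = 1 := by
      refine perm_comm_three _ ?_
      have h := (hTM _ (hsx x 0 hx).2 (hsx x 0 hx).1).1
      rw [map_mul, map_mul, map_mul, map_inv, map_inv, hx] at h
      exact h
    have hs1 : Equiv.Perm.sign (Φ n 1) = 1 := by
      refine perm_comm_three _ ?_
      have h := (hTM _ (hsx y 1 hy).2 (hsx y 1 hy).1).2.1
      rw [map_mul, map_mul, map_mul, map_inv, map_inv, hy] at h
      exact h
    have hs2 : Equiv.Perm.sign (Φ n 2) = 1 := by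
      have := D.even n
      rw [Ev, hs0, hs1, one_mul, one_mul] at this
      exact this
    refine (hTM n ((D.memT n).mpr fun i => ?_) hnM).2.2
    fin_cases i
    exacts [hs0, hs1, hs2]
  -- a Sylow subgroup of `M`
  let zM : M := ⟨z, hzM⟩
  have hz3 : orderOf (z : G) = 3 := orderOf_eq_prime (p := 3) (D.cube hzT) hz1
  have hZp : IsPGroup 3 (Subgroup.zpowers zM) :=
    IsPGroup.of_card (n := 1) (by rw [Nat.card_zpowers, ← Subgroup.orderOf_coe, hz3, pow_one])
  obtain ⟨S, hS⟩ := hZp.exists_le_sylow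
  have hnormS : ∀ r : M, r * zM * r⁻¹ ∈ Subgroup.zpowers zM → r ∈ Subgroup.zpowers zM := by
    intro r hr
    obtain ⟨k, hk⟩ := hr
    have hk' : (z : G) ^ k = (r : G) * z * (r : G)⁻¹ := by
      simpa [zM] using congrArg Subtype.val hk
    have hrH : (r : G) ∈ H := D.conj_eq hzT hz1 (hk' ▸ zpow_mem hzT k)
    obtain ⟨l, hl⟩ := hHM ⟨(r : G), hrH⟩ r.2
    exact ⟨l, Subtype.ext (by simpa [zM] using hl)⟩
  have hSeq : (S : Subgroup M) = Subgroup.zpowers zM := by
    refine le_antisymm (fun s hs => ?_) hS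
    by_contra hns
    have hlt : Subgroup.zpowers zM < (S : Subgroup M) :=
      lt_of_le_of_ne hS fun e => hns (e ▸ hs)
    haveI := S.2.isNilpotent
    obtain ⟨⟨r, hrS⟩, hr, hrn⟩ := SetLike.exists_of_lt (Group.normalizerCondition_of_isNilpotent
      ((Subgroup.zpowers zM).subgroupOf (S : Subgroup M))
      (lt_top_iff_ne_top.mpr fun e => hlt.not_ge (Subgroup.subgroupOf_eq_top.mp e)))
    rw [Subgroup.mem_subgroupOf] at hrn
    exact hrn (hnormS r (Subgroup.mem_subgroupOf.mp ((Subgroup.mem_normalizer_iff.mp hr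
      ⟨zM, hS (Subgroup.mem_zpowers _)⟩).mp (Subgroup.mem_subgroupOf.mpr (Subgroup.mem_zpowers _)))))
  have hP : Subgroup.normalizer ((S : Subgroup M) : Set M) ≤
      Subgroup.centralizer ((S : Subgroup M) : Set M) := by
    intro r hr
    rw [hSeq] at hr ⊢
    have hrz := hnormS r ((Subgroup.mem_normalizer_iff.mp hr zM).mp (Subgroup.mem_zpowers _))
    obtain ⟨k, rfl⟩ := hrz
    refine Subgroup.mem_centralizer_iff.mpr fun w hw => ?_
    obtain ⟨l, rfl⟩ := hw
    exact ((Commute.refl zM).zpow_zpow l k).eq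
  have hcompl := MonoidHom.ker_transferSylow_isComplement' S hP
  let tr := MonoidHom.transferSylow S hP
  let R : Subgroup G := tr.ker.map M.subtype
  have hScard : Nat.card (S : Subgroup M) = 3 := by
    rw [hSeq, Nat.card_zpowers, ← Subgroup.orderOf_coe, hz3]
  have hmul : Nat.card tr.ker * Nat.card (S : Subgroup M) = Nat.card M := hcompl.card_mul
  have hR3 : ¬ 3 ∣ Nat.card tr.ker := by
    intro h
    refine S.not_dvd_index ?_
    have e : (S : Subgroup M).index = Nat.card tr.ker := by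
      have := (S : Subgroup M).card_mul_index
      rw [← hmul, mul_comm (Nat.card tr.ker)] at this
      exact Nat.eq_of_mul_eq_mul_left Nat.card_pos this
    rwa [e]
  have hRcard : Nat.card R = Nat.card tr.ker := Subgroup.card_map_of_injective M.subtype_injective
  have hTR : T ≤ Subgroup.normalizer (R : Set G) := by
    have hmem : ∀ (g r : G), r ∈ R → g * r * g⁻¹ ∈ R := by
      rintro g _ ⟨r, hr, rfl⟩
      refine ⟨⟨g * r * g⁻¹, Subgroup.Normal.conj_mem inferInstance _ r.2 _⟩, ?_, rfl⟩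
      refine MonoidHom.mem_ker.mpr (orderOf_eq_one_iff.mp ?_)
      set w : M := ⟨g * r * g⁻¹, Subgroup.Normal.conj_mem inferInstance _ r.2 _⟩
      have h1 : orderOf (tr w) ∣ orderOf r := by
        refine (orderOf_map_dvd tr w).trans ?_
        rw [← Subgroup.orderOf_coe, ← Subgroup.orderOf_coe r]
        show orderOf (MulAut.conj g (r : G)) ∣ _
        rw [MulEquiv.orderOf_eq]
      have h2 : orderOf r ∣ Nat.card tr.ker := Subgroup.orderOf_dvd_natCard _ hr
      have h3 : orderOf (tr w) ∣ 3 := (orderOf_dvd_natCard _).trans hScard.dvd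
      rcases (Nat.dvd_prime Nat.prime_three).mp h3 with h | h
      · exact h
      · exact absurd ((h ▸ h1).trans h2) hR3
    intro t _
    rw [Subgroup.mem_normalizer_iff]
    refine fun r => ⟨hmem t r, fun h => ?_⟩
    have := hmem t⁻¹ _ h
    rwa [show t⁻¹ * (t * r * t⁻¹) * t⁻¹⁻¹ = r by group] at this
  have hR : R = ⊥ := by
    haveI : IsMulCommutative T := ⟨⟨fun p q => Subtype.ext (D.comm p.2 q.2)⟩⟩
    have hT3 : ∃ n, Nat.card T = 3 ^ n := IsPGroup.iff_card.mp D.isPGroup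
    obtain ⟨n, hn⟩ := hT3
    have hcop : (Nat.card T).Coprime (Nat.card R) := by
      rw [hn, hRcard]
      exact (Nat.prime_three.coprime_iff_not_dvd.mpr hR3).pow_left n
    have hnc : ¬ IsCyclic T := by
      intro hc
      haveI := hc
      obtain ⟨g, hg⟩ := IsCyclic.exists_generator (α := T)
      have hg3 : orderOf g ∣ 3 := orderOf_dvd_of_pow_eq_one (Subtype.ext (by simpa using D.cube g.2))
      obtain ⟨k, hk⟩ := hg ⟨x, D.E_mem hx⟩
      obtain ⟨l, hl⟩ := hg ⟨z, hzT⟩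
      have hcard : Nat.card T ∣ 3 := by
        rw [← orderOf_eq_card_of_forall_mem_zpowers hg]
        exact hg3
      have : Subgroup.zpowers (z : G) = T := Subgroup.eq_of_le_of_card_ge
        (Subgroup.zpowers_le.mpr hzT) (by
          rw [Nat.card_zpowers, hz3]; exact Nat.le_of_dvd (by norm_num) hcard)
      obtain ⟨q, hq⟩ : (x : G) ∈ Subgroup.zpowers (z : G) := this.symm ▸ D.E_mem hx
      have hq' : z ^ q = x := Subtype.ext (by simpa using hq)
      have h0 := congrFun (congrArg Φ hq') 0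
      rw [map_zpow, hz, hx, Pi.pow_apply, eV_other 2 0 (by decide), one_zpow] at h0
      exact eV_apply_ne 0 h0.symm
    have hle : R ≤ H := CfsgLib.Coprime.le_of_centralizer_le hnc hTR hcop fun g hg hg1 =>
      le_trans inf_le_right (D.loc g hg hg1)
    rw [eq_bot_iff]
    intro r hr
    obtain ⟨w, hw, rfl⟩ := hr
    have hz' := hHM ⟨(w : G), hle ⟨w, hw, rfl⟩⟩ w.2
    have hwT : (w : G) ∈ T := (Subgroup.zpowers_le.mpr hzT) hz'
    have : (w : G) ∈ R ⊓ T := ⟨⟨w, hw, rfl⟩, hwT⟩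
    rwa [Subgroup.inf_eq_bot_of_coprime hcop.symm] at this
  have hker : Nat.card tr.ker = 1 := by rw [← hRcard, hR, Subgroup.card_bot]
  have hS_top : (S : Subgroup M) = ⊤ := Subgroup.eq_top_of_card_eq _ (by
    rw [← hmul, hker, one_mul])
  rw [eq_top_iff]
  intro g _
  have hmemM : g * (z : G) * g⁻¹ ∈ M := Subgroup.Normal.conj_mem inferInstance _ hzM g
  have hmemS : (⟨_, hmemM⟩ : M) ∈ (S : Subgroup M) := hS_top ▸ Subgroup.mem_top _
  rw [hSeq] at hmemS
  obtain ⟨k, hk⟩ := hmemS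
  refine D.conj_eq hzT hz1 ?_
  have hk' : (z : G) ^ k = g * z * g⁻¹ := by simpa [zM] using congrArg Subtype.val hk
  exact hk' ▸ zpow_mem hzT k

end Data

end CfsgLib.ThreeCubedTI
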